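import Groth.Agent.VBCurve.K804.GenSec
import Groth.Agent.VBCurve.K553.SubDefs2
import Groth.Agent.VBCurve.K703.TwSS
import Groth.Agent.VBCurve.K703.Gen1Sub
import Groth.Agent.VBCurve.K708.GGLine
import Groth.Agent.RefCh.K939.TensCmp
import Groth.Agent.Ega2.AmpleGlobGen
import Groth.Agent.S1530

/-!
# Line subbundles of a bundle of rank two in general position (node SUB-GEN of S15230)
-/

set_option autoImplicit false
set_option linter.unusedSectionVars false
universe u

open CategoryTheory CategoryTheory.Limits AlgebraicGeometry Opposite TopologicalSpace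

namespace K804.GenMain

open Groth.Agent Groth.Agent.VarietyA.DegRank K707.Base K707.Deg K707.Slope K707.Semi K707.TensL K708.Coho K708.SSH0
open K708.PtTwist Groth.Agent.CycB.StalkExact
open Groth.Agent.Sga67.Sec Groth.Agent.Sga67.LocBasis Groth.Agent.Sga67.LocBasisStalk
open K707.Indep K707.IndepCoker K707.IndepGlob K804.RamSec

section red

variable {X : Scheme.{u}}

theorem red_of_sameMap {M M' N N' : X.Modules} {φ : M ⟶ M'} {ψ : N ⟶ N'}
    (h : ∀ x, K939.Idx.SameMap (stalkLin φ x) (stalkLin ψ x)) (hφ : K553.Sub.Red φ) : K553.Sub.Red ψ := by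
  intro x hx
  obtain ⟨e, e', he⟩ := h x
  have h1 := hφ x hx
  have h2 : (⊤ : Submodule (X.presheaf.stalk x) (N'.presheaf.stalk x)) = (⊤ : Submodule _ _).map e'.toLinearMap := by
    rw [Submodule.map_top, LinearEquiv.range]
  rw [h2, ← Submodule.map_smul'']
  refine (Submodule.map_mono h1).trans ?_
  rintro _ ⟨_, ⟨m, rfl⟩, rfl⟩
  exact ⟨e m, (he m).symm⟩

theorem red_comp_iso {M M' M'' : X.Modules} (φ : M ⟶ M') (e : M' ≅ M'') (h : K553.Sub.Red φ) :
    K553.Sub.Red (φ ≫ e.hom) := by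
  refine red_of_sameMap (fun x => ⟨LinearEquiv.refl _ _, stalkLinEquiv e x, fun m => ?_⟩) h
  rw [stalkLin_comp]
  rfl

theorem red_tensor {M N L : X.Modules} (u : M ⟶ N) (hL : PicF.IsInvertible L) (h : K553.Sub.Red u) :
    K553.Sub.Red ((T L).map u) := by
  refine red_of_sameMap (fun x => ?_) h
  obtain ⟨b⟩ := exists_basis (rank_one_iff.mpr hL) x
  exact (K939.TensCmp.sameMap_tensor u L x (b.equivFun.trans (LinearEquiv.funUnique (Fin 1) _ _))).symm

theorem appS_homOfFam {E : X.Modules} (w : Sec E ⊤) :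
    appS (homOfFam fun _ : Fin 1 => w) ⊤ (comb (freeBasis X 1) (le_top : (⊤ : X.Opens) ≤ ⊤) (fun _ => 1)) = w := by
  rw [homOfFam_comb, comb_apply, Fin.sum_univ_one, one_smul, res_self]

theorem red_homOfFam {E N : X.Modules} (w : Sec E ⊤) (q : E ⟶ N)
    (h : ∀ y : X, IsClosed ({y} : Set X) → RedAt (O := X.presheaf.stalk y) (ger N (U := ⊤) y trivial (appS q ⊤ w))) :
    K553.Sub.Red ((homOfFam fun _ : Fin 1 => w) ≫ q) := by
  intro x hx
  refine (h x hx).trans ?_
  rw [Submodule.span_singleton_le_iff_mem]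
  refine ⟨ger _ (U := ⊤) x trivial (comb (freeBasis X 1) (le_top : (⊤ : X.Opens) ≤ ⊤) (fun _ => 1)), ?_⟩
  refine (stalkLin_ger _ (U := ⊤) x trivial _).trans ?_
  rw [appS_comp, appS_homOfFam]

end red

variable {k : Type u} [Field k] [IsAlgClosed k] [CharZero k] {X : Scheme.{u}} [X.Over (Spec (CommRingCat.of k))]
  [IsIntegral X] [IsProper (X ↘ (Spec (CommRingCat.of k)))]

omit [CharZero k] in
/-- `E ⊗ N` is globally generated for some invertible `N` of large degree. -/
theorem exists_twist (C : Crv k X) {E : X.Modules} (hE : Coh.IsCoh E) (m : ℤ) :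
    ∃ N : X.Modules, PicF.IsInvertible N ∧ m ≤ dg k N ∧ Curv2.IsGloballyGenerated ((T N).obj E) := by
  have := isNoetherian k (X := X)
  obtain ⟨A, hA, hpos⟩ := exists_inv_pos C
  have hamp : CohB1.IsAmple A := (S1530.result k X C.dim A hA).mpr (by
    rw [← dg_of_rank k (rank_one_iff.mpr hA)]; exact hpos)
  obtain ⟨n₀, hn₀⟩ := Ega2.AmpleGlobGen.exists_globGen hamp hE
  obtain ⟨h1, h2⟩ := inv_pow C hA (max n₀ m.toNat)
  refine ⟨_, h1, ?_, hn₀ _ (le_max_left _ _)⟩
  rw [h2]
  have h3 : m ≤ m.toNat := Int.self_le_toNat m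
  have h4 : (m.toNat : ℤ) ≤ (max n₀ m.toNat : ℕ) := by exact_mod_cast le_max_right _ _
  nlinarith

theorem main (C : Crv k X) (E : X.Modules) (hE : FlatMod.IsFinLocFreeOfRank 2 E)
    {ι : Type} [Finite ι] (Q : ι → X.Modules) (hQ : ∀ i, PicF.IsInvertible (Q i)) (q : ∀ i, E ⟶ Q i)
    (hq : ∀ i, Epi (q i)) (m : ℤ) :
    ∃ (A B : X.Modules) (a : A ⟶ E) (b : E ⟶ B) (w : a ≫ b = 0), (ShortComplex.mk a b w).ShortExact ∧
      PicF.IsInvertible A ∧ PicF.IsInvertible B ∧ dg k A ≤ m ∧ ∀ i, a ≫ q i ≠ 0 ∧ K553.Sub.Red (a ≫ q i) := by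
  have := isNoetherian k (X := X)
  have hcoh : Coh.IsCoh E := isCoh_of_rank hE
  obtain ⟨N, hN, hNm, hgg⟩ := exists_twist C hcoh (-m)
  obtain ⟨P, hP, ⟨e⟩, -, hPd⟩ := exists_inv C hN
  have hEqN := isEquivalence hN
  have hEqP := isEquivalence hP
  have hE' : FlatMod.IsFinLocFreeOfRank 2 ((T N).obj E) := K703.TwSS.rank_twist C hN hE
  have hQ' : ∀ i, FlatMod.IsFinLocFreeOfRank 1 ((T N).obj (Q i)) := fun i =>
    K703.TwSS.rank_twist C hN (rank_one_iff.mpr (hQ i))
  have hq' : ∀ i, Epi ((T N).map (q i)) := fun i => by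
    have := hq i
    infer_instance
  obtain ⟨w, hw, hwq⟩ := GenSec.exists_section (X ↘ (Spec (CommRingCat.of k))) C.dim.le hE' hgg
    (fun i => (T N).obj (Q i)) hQ' (fun i => (T N).map (q i)) hq'
  let φ : FlatMod.freeMod X 1 ⟶ (T N).obj E := homOfFam fun _ : Fin 1 => w
  have hPB : PartBasis (2 - 1) (fun _ : Fin 1 => w) := fun x => exists_complement' hE' _ x (hw x)
  have hmono : Mono φ := mono_homOfFam hPB
  have hcok : FlatMod.IsFinLocFreeOfRank 1 (cokernel φ) := rank_cokernel hPB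
  have hS := (cokernel_shortExact φ).map_of_exact (T P)
  let iE := K703.TwSS.twIso e E
  have hnat : ∀ i, iE.hom ≫ q i = (T P).map ((T N).map (q i)) ≫ (K703.TwSS.twIso e (Q i)).hom := fun i =>
    ((PerfB.TensInv.tensorInvIso e).hom.naturality (q i)).symm
  have hw0 : ((T P).map φ ≫ iE.hom) ≫ (iE.inv ≫ (T P).map (cokernel.π φ)) = 0 := by
    rw [Category.assoc, Iso.hom_inv_id_assoc, ← Functor.map_comp, cokernel.condition, Functor.map_zero]
  have hS' : (ShortComplex.mk _ _ hw0).ShortExact := by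
    have iS : (ShortComplex.mk φ (cokernel.π φ) (cokernel.condition φ)).map (T P) ≅ ShortComplex.mk _ _ hw0 :=
      ShortComplex.isoMk (Iso.refl _) iE (Iso.refl _) (Category.id_comp _) (by
        change iE.hom ≫ iE.inv ≫ (T P).map (cokernel.π φ) = (T P).map (cokernel.π φ) ≫ 𝟙 _
        rw [Iso.hom_inv_id_assoc, Category.comp_id])
    exact ShortComplex.shortExact_of_iso iS hS
  have hfree : FlatMod.IsFinLocFreeOfRank 1 (FlatMod.freeMod X 1) := K703.Gen1Sub.rank_freeMod 1
  refine ⟨(T P).obj (FlatMod.freeMod X 1), (T P).obj (cokernel φ), _, _, hw0, hS',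
    rank_one_iff.mp (K703.TwSS.rank_twist C hP hfree), rank_one_iff.mp (K703.TwSS.rank_twist C hP hcok), ?_,
    fun i => ⟨fun h => ?_, ?_⟩⟩
  · rw [K703.TwSS.dg_twist C hP (isCoh_of_rank hfree), K705.EvFib2.dg_free C 1, rk_of_rank hfree, hPd]
    push_cast
    omega
  · have h1 : (T P).map (φ ≫ (T N).map (q i)) ≫ (K703.TwSS.twIso e (Q i)).hom = 0 := by
      rw [Functor.map_comp, Category.assoc, ← hnat i, ← Category.assoc]
      exact h
    have h2 : (T P).map (φ ≫ (T N).map (q i)) = 0 := by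
      rw [← cancel_mono (K703.TwSS.twIso e (Q i)).hom, h1, zero_comp]
    have h3 : φ ≫ (T N).map (q i) = 0 := (T P).map_injective (by rw [h2, Functor.map_zero])
    apply (hwq i).2
    have h4 := congrArg (fun ψ => appS ψ ⊤ (comb (freeBasis X 1) (le_top : (⊤ : X.Opens) ≤ ⊤) (fun _ => 1))) h3
    rw [← appS_homOfFam w]
    exact h4
  · rw [Category.assoc, hnat i, ← Category.assoc, ← Functor.map_comp]
    exact red_comp_iso _ _ (red_tensor _ hP (red_homOfFam w _ (hwq i).1))

end K804.GenMain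

namespace K553.Sub

open Groth.Agent

variable {k : Type u} [Field k] [IsAlgClosed k] (C : Over (Spec (CommRingCat.of k)))
  [IsIntegral C.left] [IsProper C.hom] [Smooth C.hom] (hdim : topologicalKrullDim C.left = 1)

include hdim in
/-- A bundle of rank two has an invertible submodule of very negative degree with invertible quotient which meets
given quotients transversally (characteristic zero). -/
theorem exists_general [CharZero k] (E : C.left.Modules) (hE : FlatMod.IsFinLocFreeOfRank 2 E)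
    {ι : Type} [Finite ι] (Q : ι → C.left.Modules) (hQ : ∀ i, PicF.IsInvertible (Q i)) (q : ∀ i, E ⟶ Q i)
    (hq : ∀ i, Epi (q i)) (m : ℤ) :
    ∃ (A B : C.left.Modules) (a : A ⟶ E) (b : E ⟶ B) (w : a ≫ b = 0), (ShortComplex.mk a b w).ShortExact ∧
      PicF.IsInvertible A ∧ PicF.IsInvertible B ∧ Curv2.deg k C.left A 1 ≤ m ∧
      ∀ i, a ≫ q i ≠ 0 ∧ Red (a ≫ q i) := by
  have : IsProper (C.left ↘ (Spec (CommRingCat.of k))) := inferInstanceAs (IsProper C.hom)
  have : Smooth (C.left ↘ (Spec (CommRingCat.of k))) := inferInstanceAs (Smooth C.hom)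
  have D : K707.Base.Crv k C.left := K707.Base.Crv.of_smooth hdim
  obtain ⟨A, B, a, b, w, h1, h2, h3, h4, h5⟩ := K804.GenMain.main D E hE Q hQ q hq m
  refine ⟨A, B, a, b, w, h1, h2, h3, ?_, h5⟩
  rwa [← K707.Deg.dg_of_rank k (K707.TensL.rank_one_iff.mpr h2)]

end K553.Sub
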