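import Groth.Agent.VBCurve.K804.RamSec
import Groth.Agent.CycB.StalkExact

/-!
# General sections of a globally generated module on a curve in characteristic zero

`exists_section`: a section of a globally generated module of rank two without zeros, whose images in finitely many
invertible quotients have reduced zeros and are not zero.
-/

set_option autoImplicit false
set_option linter.unusedSectionVars false
universe u

open CategoryTheory CategoryTheory.Limits AlgebraicGeometry Opposite TopologicalSpace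

namespace K804.GenSec

open Groth.Agent.Sga67.Sec Groth.Agent.Sga67.LocBasis Groth.Agent.Sga67.LocBasisStalk
open K707.Indep K707.IndepCoker K707.IndepGlob K804.RamSec Groth.Agent.CycB.StalkExact

variable {k : Type u} [Field k] {X : Scheme.{u}}

theorem finrank_fib {r : ℕ} {N : X.Modules} (hN : FlatMod.IsFinLocFreeOfRank r N) (x : X) :
    Module.finrank (KK X x) (Fib N x) = r := by
  simp only [FlatMod.IsFinLocFreeOfRank, nonempty_restrict_iso_iff] at hN
  obtain ⟨U, hxU, b, hb⟩ := hN x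
  obtain ⟨β, -⟩ := exists_fibBasis hb x hxU
  rw [Module.finrank_eq_card_basis β, Fintype.card_fin]

/-- The value at `x` of the image of a section. -/
noncomputable def evg {E N : X.Modules} (g : E ⟶ N) (x : X) : Sec E ⊤ →+ Fib N x where
  toFun w := ev N (U := ⊤) x trivial (appS g ⊤ w)
  map_zero' := by rw [map_zero]; exact ev_zero _ _ _
  map_add' s t := by rw [map_add]; exact ev_add _ _ _ _ _

theorem evg_apply {E N : X.Modules} (g : E ⟶ N) (x : X) (w : Sec E ⊤) :
    evg g x w = ev N (U := ⊤) x trivial (appS g ⊤ w) := rfl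

theorem evg_smul {E N : X.Modules} (g : E ⟶ N) (x : X) (r : Γ(X, ⊤)) (w : Sec E ⊤) :
    evg g x (r • w) = evO (U := ⊤) x trivial r • evg g x w :=
  (congrArg (ev N (U := ⊤) x trivial) (map_smul (appS g ⊤) r w)).trans (ev_smul N (U := ⊤) x trivial r _)

/-- If the germs of the sections of `E` span the stalks then the values of the images in a quotient span the fibres. -/
theorem span_evg {E N : X.Modules} (g : E ⟶ N) [Epi g] (x : X)
    {ι : Type*} (e : ι → Γ(E, ⊤)) (he : Submodule.span (X.presheaf.stalk x)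
      (Set.range fun i => E.presheaf.germ ⊤ x trivial (e i)) = ⊤) :
    Submodule.span (KK X x) (Set.range (evg g x)) = ⊤ := by
  rw [eq_top_iff]
  rintro v -
  obtain ⟨t, rfl⟩ := tev_surjective N x v
  obtain ⟨t, rfl⟩ := stalkLin_surjective g x t
  have ht : t ∈ Submodule.span (X.presheaf.stalk x) (Set.range fun i => E.presheaf.germ ⊤ x trivial (e i)) := by
    rw [he]; trivial
  induction ht using Submodule.span_induction with
  | mem t ht =>
    obtain ⟨i, rfl⟩ := ht
    exact Submodule.subset_span ⟨e i, (congrArg (tev N x) (stalkLin_ger g (U := ⊤) x trivial (e i))).symm⟩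
  | zero => rw [map_zero, map_zero]; exact Submodule.zero_mem _
  | add s t _ _ hs ht => rw [map_add, map_add]; exact Submodule.add_mem _ hs ht
  | smul a t _ ht => rw [map_smul, tev_smul]; exact Submodule.smul_mem _ _ ht

theorem isOpen_evg {r : ℕ} {E N : X.Modules} (hN : FlatMod.IsFinLocFreeOfRank r N) (g : E ⟶ N) (w : Sec E ⊤) :
    IsOpen {x : X | evg g x w ≠ 0} := by
  have h := isOpen_indep hN (fun _ : Fin 1 => appS g ⊤ w)
  have h2 : {x : X | evg g x w ≠ 0} = {x | Ind (fun _ : Fin 1 => appS g ⊤ w) x} := by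
    ext x
    exact (linearIndependent_unique_iff (R := KK X x) (v := fun _ : Fin 1 => evg g x w)).symm
  rw [h2]
  exact h

variable (f : X ⟶ Spec (CommRingCat.of k))

/-- constants in the residue field -/
noncomputable def kx (x : X) : k →+* KK X x := (evO (U := ⊤) x trivial).comp (kSec f ⊤)

/-- The vector space of sections. -/
@[reducible] noncomputable def modSec (E : X.Modules) : Module k (Sec E ⊤) := Module.compHom _ (kSec f ⊤)

/-- The sections whose image vanishes at `x`. -/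
noncomputable def van {E N : X.Modules} (g : E ⟶ N) (x : X) : @Submodule k (Sec E ⊤) _ _ (modSec f E) :=
  letI := modSec f E
  K707.Avoid.pre (kx f x) (evg g x) (fun c w => evg_smul g x (kSec f ⊤ c) w) ⊥

theorem mem_van {E N : X.Modules} (g : E ⟶ N) (x : X) (w : Sec E ⊤) : w ∈ van f g x ↔ evg g x w = 0 := Iff.rfl

theorem van_ne_top {r : ℕ} {E N : X.Modules} (g : E ⟶ N) [Epi g] (hN : FlatMod.IsFinLocFreeOfRank r N) (hr : 0 < r)
    (hgg : Curv2.IsGloballyGenerated E) (x : X) : van f g x ≠ ⊤ := by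
  obtain ⟨ι, e, he⟩ := Groth.Agent.CurvesC.GGSec.exists_sections_of_isGloballyGenerated hgg
  have h := @K707.Avoid.pre_ne_top k _ (Sec E ⊤) _ (modSec f E) (KK X x) _ (Fib N x) _ _ (kx f x) (evg g x)
    (fun c w => evg_smul g x (kSec f ⊤ c) w) r (finrank_fib hN x) (span_evg g x e (he x)) 0 hr (fun i => i.elim0)
  intro h'
  apply h
  rw [← h', van]
  congr 1
  simp

theorem eq_zero_of_two {K V : Type*} [Field K] [AddCommGroup V] [Module K V] {u v : V} {a b : K} (h1 : u + a • v = 0)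
    (h2 : u + b • v = 0) (hab : a ≠ b) : v = 0 := by
  have h3 : (a - b) • v = 0 := by
    rw [sub_smul, ← add_sub_add_left_eq_sub _ _ u, h1, h2, sub_self]
  rcases smul_eq_zero.mp h3 with h5 | h5
  · exact absurd h5 (sub_ne_zero.mpr hab)
  · exact h5

theorem ne_zero_of_indep {K V : Type*} [Field K] [AddCommGroup V] [Module K V] {u v : V}
    (h : LinearIndependent K ![u, v]) (a : K) : u + a • v ≠ 0 := by
  intro h0
  refine (linearIndependent_fin2.mp h).2 (-a) ?_
  change -a • v = u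
  rw [neg_smul]
  exact neg_eq_of_add_eq_zero_left h0

theorem indep_of {K V : Type*} [Field K] [AddCommGroup V] [Module K V] {u v : V} (hv : v ≠ 0)
    (h : u ∉ Submodule.span K (Set.range (fun _ : Fin 1 => v))) : LinearIndependent K ![u, v] := by
  rw [linearIndependent_fin2]
  refine ⟨hv, fun a ha => h ?_⟩
  change a • v = u at ha
  rw [← ha]
  exact Submodule.smul_mem _ _ (Submodule.subset_span ⟨0, rfl⟩)

theorem evg_pencil {E N : X.Modules} (g : E ⟶ N) (x : X) (w₀ w₁ : Sec E ⊤) (d : k) :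
    evg g x (w₀ + kSec f ⊤ d • w₁) = evg g x w₀ + kx f x d • evg g x w₁ :=
  (map_add (evg g x) _ _).trans (congrArg (evg g x w₀ + ·) (evg_smul g x (kSec f ⊤ d) w₁))

/-- The `c` for which `w₀ + c w₁` has an image vanishing at `x`: at most one. -/
theorem finite_bad {E N : X.Modules} (g : E ⟶ N) (x : X) (w₀ w₁ : Sec E ⊤)
    (h : evg g x w₁ = 0 → evg g x w₀ ≠ 0) :
    {c : k | evg g x (w₀ + kSec f ⊤ c • w₁) = 0}.Finite := by
  refine Set.Subsingleton.finite ?_
  intro c hc c' hc'
  by_contra hne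
  have h1 := (evg_pencil f g x w₀ w₁ c).symm.trans hc
  have h4 : evg g x w₁ = 0 := eq_zero_of_two h1 ((evg_pencil f g x w₀ w₁ c').symm.trans hc')
    (fun h => hne ((kx f x).injective h))
  apply h h4
  rwa [h4, smul_zero, add_zero] at h1

/-- A general section. -/
theorem exists_section [IsIntegral X] [IsNoetherian X] [IsAlgClosed k] [CharZero k] [LocallyOfFiniteType f]
    (hd : topologicalKrullDim X ≤ 1) {E : X.Modules} (hE : FlatMod.IsFinLocFreeOfRank 2 E)
    (hgg : Curv2.IsGloballyGenerated E) {ι : Type} [Finite ι] (Q : ι → X.Modules)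
    (hQ : ∀ i, FlatMod.IsFinLocFreeOfRank 1 (Q i)) (q : ∀ i, E ⟶ Q i) (hq : ∀ i, Epi (q i)) :
    ∃ w : Sec E ⊤, (∀ x, Ind (fun _ : Fin 1 => w) x) ∧
      ∀ i, (∀ y : X, IsClosed ({y} : Set X) → RedAt (O := X.presheaf.stalk y)
        (ger (Q i) (U := ⊤) y trivial (appS (q i) ⊤ w))) ∧ appS (q i) ⊤ w ≠ 0 := by
  classical
  obtain ⟨Ξ, hΞ, hfin, ξ, hξ⟩ : ∃ Ξ : Set X, Ξ.Finite ∧ (∀ C : Set X, IsClosed C → Disjoint C Ξ → C.Finite) ∧
      ∃ ξ, ξ ∈ Ξ := by
    obtain ⟨Ξ, hΞ, hfin⟩ := K707.AvoidTop.exists_generic hd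
    exact ⟨insert (genericPoint X) Ξ, hΞ.insert _, fun C hC hdis => hfin C hC
      (hdis.mono_right (Set.subset_insert _ _)), genericPoint X, Set.mem_insert _ _⟩
  have : Infinite k := IsAlgClosed.instInfinite
  let _ := modSec f E
  -- the family of quotients, including `E` itself
  let N : Option ι → X.Modules := fun j => j.elim E Q
  let g : ∀ j, E ⟶ N j := fun j => match j with
    | none => 𝟙 E
    | some i => q i
  let r : Option ι → ℕ := fun j => j.elim 2 (fun _ => 1)
  have hN : ∀ j, FlatMod.IsFinLocFreeOfRank (r j) (N j) := fun j => match j with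
    | none => hE
    | some i => hQ i
  have hr : ∀ j, 0 < r j := fun j => match j with
    | none => two_pos
    | some _ => one_pos
  have hg : ∀ j, Epi (g j) := fun j => match j with
    | none => inferInstanceAs (Epi (𝟙 E))
    | some i => hq i
  have hvan : ∀ j x, van f (g j) x ≠ ⊤ := fun j x => by
    have := hg j
    exact van_ne_top f (g j) (hN j) (hr j) hgg x
  -- the first section
  obtain ⟨w₁, hw₁⟩ := K707.Avoid.exists_not_mem (k := k) (W := Sec E ⊤) (ι := Option ι × X)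
    (s := Set.univ ×ˢ Ξ) (Set.finite_univ.prod hΞ) (fun p => van f (g p.1) p.2) (fun p _ => hvan p.1 p.2)
  have hw₁' : ∀ j, ∀ ξ ∈ Ξ, evg (g j) ξ w₁ ≠ 0 := fun j ξ hξ => hw₁ (j, ξ) ⟨trivial, hξ⟩
  let A : Option ι → Set X := fun j => {x | evg (g j) x w₁ = 0}
  have hA : ∀ j, (A j).Finite := by
    intro j
    refine hfin _ ?_ ?_
    · rw [← isOpen_compl_iff]
      exact isOpen_evg (hN j) (g j) w₁
    · rw [Set.disjoint_left]
      intro x hx hx'
      exact hw₁' j x hx' hx
  -- the second section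
  let S : X → Submodule k (Sec E ⊤) := fun x =>
    K707.Avoid.pre (kx f x) (evg (𝟙 E) x) (fun c w => evg_smul (𝟙 E) x (kSec f ⊤ c) w)
      (Submodule.span (KK X x) (Set.range (fun _ : Fin 1 => evg (𝟙 E) x w₁)))
  have hS : ∀ x, S x ≠ ⊤ := by
    intro x
    obtain ⟨κ, e, he⟩ := Groth.Agent.CurvesC.GGSec.exists_sections_of_isGloballyGenerated hgg
    exact K707.Avoid.pre_ne_top (kx f x) (evg (𝟙 E) x) (fun c w => evg_smul (𝟙 E) x (kSec f ⊤ c) w)
      (finrank_fib hE x) (span_evg (𝟙 E) x e (he x)) one_lt_two _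
  obtain ⟨w₀, hw₀⟩ := K707.Avoid.exists_not_mem (k := k) (W := Sec E ⊤) (ι := X ⊕ (Option ι × X))
    (s := Sum.inl '' Ξ ∪ Sum.inr '' (⋃ j, {j} ×ˢ A j)) ((hΞ.image _).union
      ((Set.finite_iUnion fun j => (Set.finite_singleton j).prod (hA j)).image _))
    (Sum.elim S (fun p => van f (g p.1) p.2)) (by
      rintro (x | p) _
      · exact hS x
      · exact hvan p.1 p.2)
  have hw₀' : ∀ j x, evg (g j) x w₁ = 0 → evg (g j) x w₀ ≠ 0 := fun j x hx =>
    hw₀ (Sum.inr (j, x)) (Or.inr ⟨(j, x), Set.mem_iUnion.mpr ⟨j, rfl, hx⟩, rfl⟩)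
  have hS₀ : ∀ ξ ∈ Ξ, w₀ ∉ S ξ := fun ξ hξ => hw₀ (Sum.inl ξ) (Or.inl ⟨ξ, hξ, rfl⟩)
  -- where the two sections are dependent
  let D : Set X := {x | ¬ Ind ![w₀, w₁] x}
  have hD : D.Finite := by
    refine hfin _ ?_ ?_
    · rw [← isOpen_compl_iff]
      have : Dᶜ = {x | Ind ![w₀, w₁] x} := by
        ext x
        exact not_not
      rw [this]
      exact isOpen_indep hE _
    · rw [Set.disjoint_left]
      intro x hx hx'
      apply hx
      have h1 := indep_of (hw₁' none x hx') (hS₀ x hx')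
      have h2 : (fun i => ev E (U := ⊤) x trivial (![w₀, w₁] i)) = ![evg (𝟙 E) x w₀, evg (𝟙 E) x w₁] := by
        funext i
        fin_cases i <;> rfl
      rw [Ind, h2]
      exact h1
  have hT₀ : (⋃ x ∈ D, {c : k | evg (𝟙 E) x (w₀ + kSec f ⊤ c • w₁) = 0}).Finite :=
    hD.biUnion fun x _ => finite_bad f (𝟙 E) x w₀ w₁ (hw₀' none x)
  have hT₁ : (⋃ i : ι, {c : k | evg (q i) ξ (w₀ + kSec f ⊤ c • w₁) = 0}).Finite :=
    Set.finite_iUnion fun i => finite_bad f (q i) ξ w₀ w₁ (hw₀' (some i) ξ)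
  have hex : ∀ i, ∃ T : Set k, T.Finite ∧ ∀ c ∉ T, ∀ y : X, IsClosed ({y} : Set X) →
      RedAt (O := X.presheaf.stalk y) (ger (Q i) (U := ⊤) y trivial
        (appS (q i) ⊤ w₀ + kSec f ⊤ c • appS (q i) ⊤ w₁)) := fun i =>
    RamSec.exists_finite f hd (hQ i) _ _ (fun x h => hw₀' (some i) x h.2 h.1)
  choose T hT H using hex
  obtain ⟨c, hc⟩ := ((hT₀.union hT₁).union (Set.finite_iUnion hT)).exists_notMem
  have hc0 : ∀ x ∈ D, evg (𝟙 E) x (w₀ + kSec f ⊤ c • w₁) ≠ 0 := fun x hx h =>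
    hc (Or.inl (Or.inl (Set.mem_biUnion hx h)))
  have hc1 : ∀ i, evg (q i) ξ (w₀ + kSec f ⊤ c • w₁) ≠ 0 := fun i h =>
    hc (Or.inl (Or.inr (Set.mem_iUnion.mpr ⟨i, h⟩)))
  have hc2 : ∀ i, c ∉ T i := fun i h => hc (Or.inr (Set.mem_iUnion.mpr ⟨i, h⟩))
  refine ⟨w₀ + kSec f ⊤ c • w₁, fun x => ?_, fun i => ⟨fun y hy => ?_, fun h => ?_⟩⟩
  · rw [Ind, linearIndependent_unique_iff]
    by_cases hx : x ∈ D
    · exact hc0 x hx
    · have h1 : Ind ![w₀, w₁] x := not_not.mp hx
      have h2 : (fun i => ev E (U := ⊤) x trivial (![w₀, w₁] i)) = ![evg (𝟙 E) x w₀, evg (𝟙 E) x w₁] := by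
        funext i
        fin_cases i <;> rfl
      rw [Ind, h2] at h1
      exact fun h3 => ne_zero_of_indep h1 (kx f x c) ((evg_pencil f (𝟙 E) x w₀ w₁ c).symm.trans h3)
  · have h1 := H i c (hc2 i) y hy
    have h2 : appS (q i) ⊤ w₀ + kSec f ⊤ c • appS (q i) ⊤ w₁ = appS (q i) ⊤ (w₀ + kSec f ⊤ c • w₁) := by
      rw [map_add, map_smul]
    rwa [h2] at h1
  · apply hc1 i
    rw [evg_apply, h]
    exact ev_zero _ _ _

end K804.GenSec
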