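import Mathlib.RingTheory.Unramified.LocalRing
import Mathlib.RingTheory.AlgebraicIndependent.TranscendenceBasis
import Mathlib.RingTheory.Ideal.MinimalPrime.Noetherian
import Mathlib.RingTheory.DedekindDomain.Basic
import Mathlib.RingTheory.Nullstellensatz
import Mathlib.FieldTheory.Perfect
import Groth.Agent.CalgC.DimFT

/-!
# Functions on affine curves in characteristic zero have finitely many critical values

`exists_finite`: `R` a domain of finite type over an algebraically closed field `k` of characteristic zero, of
dimension at most one, `f ∈ R`; for all but finitely many `c ∈ k` the element `f - c` generates the maximal ideal of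
`R_p` for every maximal ideal `p` containing it.
-/

set_option autoImplicit false
set_option linter.unusedSectionVars false
universe u

open Polynomial

namespace K804.RamAlg

variable {R : Type u} [CommRing R] [IsDomain R]

theorem dimLEOne (hd : ringKrullDim R ≤ 1) : Ring.DimensionLEOne R := by
  have h1 : Ring.KrullDimLE 1 R := Ring.krullDimLE_iff.mpr (by exact_mod_cast hd)
  exact ⟨fun h0 hp => Ring.krullDimLE_one_iff_of_noZeroDivisors.mp h1 _ h0 hp⟩

/-- a nonzero element lies in finitely many maximal ideals -/
theorem finite_max [IsNoetherianRing R] [Ring.DimensionLEOne R] {g : R} (hg : g ≠ 0) :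
    {p : PrimeSpectrum R | g ∈ p.asIdeal}.Finite := by
  have h1 := (Ideal.span {g}).finite_minimalPrimes_of_isNoetherianRing R
  refine Set.Finite.of_finite_image (f := PrimeSpectrum.asIdeal) (h1.subset ?_)
    (fun a _ b _ h => PrimeSpectrum.ext h)
  rintro _ ⟨p, hp, rfl⟩
  obtain ⟨q, hq, hqp⟩ := Ideal.exists_minimalPrimes_le (I := Ideal.span {g}) (J := p.asIdeal)
    ((Ideal.span_singleton_le_iff_mem _).mpr hp)
  have hq0 : q ≠ ⊥ := by
    rintro rfl
    exact hg (by simpa using (Ideal.span_singleton_le_iff_mem _).mp hq.1.2)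
  have hqm : q.IsMaximal := Ring.DimensionLEOne.maximalOfPrime hq0 hq.1.1
  rwa [← hqm.eq_of_le p.isPrime.ne_top hqp]

variable {k : Type u} [Field k] [Algebra k R]

theorem isAlgebraic_poly [Algebra.FiniteType k R] (hd : ringKrullDim R ≤ 1) {f : R} (hf : Transcendental k f) :
    letI := (aeval (R := k) f).toRingHom.toAlgebra
    Algebra.IsAlgebraic k[X] R := by
  let := (aeval (R := k) f).toRingHom.toAlgebra
  obtain ⟨d, h1, h2, -⟩ := Groth.Agent.CalgC.DimFT.exists_dim k R
  have hd1 : d ≤ 1 := by
    rw [h1] at hd
    exact_mod_cast hd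
  have hx : AlgebraicIndependent k (fun _ : Unit => f) := algebraicIndependent_unique_type_iff.mpr hf
  have hb : IsTranscendenceBasis k (fun _ : Unit => f) :=
    hx.isTranscendenceBasis_of_lift_trdeg_le_of_finite (by
      rw [h2]
      simp only [Cardinal.lift_natCast, Cardinal.mk_fintype, Fintype.card_unit, Nat.cast_one, Cardinal.lift_one]
      exact_mod_cast hd1)
  have := hb.isAlgebraic
  let g : k[X] →ₐ[k] Algebra.adjoin k (Set.range (fun _ : Unit => f)) :=
    aeval ⟨f, Algebra.subset_adjoin ⟨(), rfl⟩⟩
  refine Algebra.IsAlgebraic.of_ringHom_of_comp_eq (S := Algebra.adjoin k (Set.range (fun _ : Unit => f))) (B := R)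
    g.toRingHom (RingHom.id R) ?_ Function.injective_id ?_
  · have h3 : g.range = ⊤ := by
      apply Subalgebra.map_injective (f := (Algebra.adjoin k (Set.range (fun _ : Unit => f))).val)
        Subtype.val_injective
      rw [← AlgHom.range_comp, Algebra.map_top, Subalgebra.range_val]
      apply le_antisymm
      · rintro _ ⟨p, rfl⟩
        exact (g p).2
      · rw [Algebra.adjoin_le_iff]
        rintro _ ⟨_, rfl⟩
        exact ⟨X, by simp [g]⟩
    intro y
    obtain ⟨p, hp⟩ := (show y ∈ g.range by rw [h3]; trivial)
    exact ⟨p, hp⟩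
  · refine RingHom.ext fun p => ?_
    have h4 : ((Algebra.adjoin k (Set.range (fun _ : Unit => f))).val.comp g) = aeval f := by
      refine Polynomial.algHom_ext ?_
      simp [g]
    exact DFunLike.congr_fun h4 p

/-- A transcendental function is unramified at the generic point. -/
theorem isUnramifiedAt_bot [CharZero k] [Algebra.FiniteType k R] (hd : ringKrullDim R ≤ 1) {f : R}
    (hf : Transcendental k f) :
    letI := (aeval (R := k) f).toRingHom.toAlgebra
    Algebra.IsUnramifiedAt k[X] (⊥ : Ideal R) := by
  let := (aeval (R := k) f).toRingHom.toAlgebra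
  have hal := isAlgebraic_poly hd hf
  have hinj : Function.Injective (algebraMap k[X] R) := transcendental_iff_injective.mp hf
  have : FaithfulSMul k[X] R := (faithfulSMul_iff_algebraMap_injective _ _).mpr hinj
  have : FaithfulSMul k[X] (FractionRing R) := (faithfulSMul_iff_algebraMap_injective _ _).mpr (by
    rw [IsScalarTower.algebraMap_eq k[X] R (FractionRing R)]
    exact (IsFractionRing.injective R _).comp hinj)
  let : Algebra (FractionRing k[X]) (FractionRing R) := FractionRing.liftAlgebra k[X] _
  have := FractionRing.isScalarTower_liftAlgebra k[X] (FractionRing R)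
  have h1 := (IsFractionRing.isAlgebraic_iff' k[X] R (FractionRing R)).1 inferInstance
  have h2 : Algebra.IsAlgebraic (FractionRing k[X]) (FractionRing R) :=
    ⟨fun _ ↦ (IsFractionRing.isAlgebraic_iff k[X] (FractionRing k[X]) (FractionRing R)).1
      (Algebra.IsAlgebraic.isAlgebraic _)⟩
  have : CharZero (FractionRing k[X]) :=
    charZero_of_injective_algebraMap (R := k[X]) (IsFractionRing.injective k[X] (FractionRing k[X]))
  have h3 : Algebra.FormallyUnramified (FractionRing k[X]) (FractionRing R) :=
    Algebra.FormallyUnramified.of_isSeparable _ _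
  have h4 : Algebra.FormallyUnramified k[X] (FractionRing k[X]) :=
    Algebra.FormallyUnramified.of_isLocalization (nonZeroDivisors k[X])
  have h5 : Algebra.FormallyUnramified k[X] (FractionRing R) :=
    Algebra.FormallyUnramified.comp k[X] (FractionRing k[X]) _
  have h6 : (⊥ : Ideal R).primeCompl = nonZeroDivisors R := by
    ext x
    simp [Ideal.primeCompl]
  have : IsLocalization.AtPrime (FractionRing R) (⊥ : Ideal R) := by
    rw [IsLocalization.AtPrime, h6]
    infer_instance
  let e : FractionRing R ≃ₐ[R] Localization.AtPrime (⊥ : Ideal R) :=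
    IsLocalization.algEquiv (⊥ : Ideal R).primeCompl _ _
  exact Algebra.FormallyUnramified.of_equiv (e.restrictScalars k[X])

/-- At an unramified maximal ideal the function is a uniformizer. -/
theorem span_of_isUnramifiedAt [IsAlgClosed k] [Algebra.FiniteType k R] (f : R) (p : Ideal R) [p.IsMaximal]
    (c : k) (hc : f - algebraMap k R c ∈ p)
    (h : letI := (aeval (R := k) f).toRingHom.toAlgebra; Algebra.IsUnramifiedAt k[X] p) :
    IsLocalRing.maximalIdeal (Localization.AtPrime p) =
      Ideal.span {algebraMap R (Localization.AtPrime p) (f - algebraMap k R c)} := by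
  let := (aeval (R := k) f).toRingHom.toAlgebra
  have : IsScalarTower k k[X] R := IsScalarTower.of_algebraMap_eq fun x => by
    change _ = aeval f (C x)
    rw [aeval_C]
  have : Algebra.FiniteType k[X] R := Algebra.FiniteType.of_restrictScalars_finiteType k k[X] R
  let q : Ideal k[X] := Ideal.span {X - C c}
  have hq : q.IsMaximal := PrincipalIdealRing.isMaximal_of_irreducible (irreducible_X_sub_C c)
  have hle : q ≤ p.under k[X] := by
    rw [Ideal.span_singleton_le_iff_mem, Ideal.mem_comap]
    change aeval f (X - C c) ∈ p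
    simpa using hc
  have hqp : q = p.under k[X] := hq.eq_of_le (Ideal.IsPrime.ne_top inferInstance) hle
  have : p.LiesOver q := ⟨hqp⟩
  let := Localization.AtPrime.algebraOfLiesOver q p
  have h1 := ((Algebra.isUnramifiedAt_iff_map_eq k[X] q p).mp h).2
  rw [← h1, Ideal.map_span, Set.image_singleton]
  congr 2
  rw [IsScalarTower.algebraMap_apply k[X] R]
  congr 1
  change aeval f (X - C c) = _
  simp

/-- For all but finitely many `c`, the element `f - c` generates the maximal ideal of `R_p` for every maximal ideal `p`
containing it. -/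
theorem exists_finite [IsAlgClosed k] [CharZero k] [Algebra.FiniteType k R] (hd : ringKrullDim R ≤ 1) (f : R) :
    ∃ T : Set k, T.Finite ∧ ∀ c ∉ T, f ≠ algebraMap k R c ∧
      ∀ (p : Ideal R) [p.IsMaximal], f - algebraMap k R c ∈ p →
        IsLocalRing.maximalIdeal (Localization.AtPrime p) =
          Ideal.span {algebraMap R (Localization.AtPrime p) (f - algebraMap k R c)} := by
  by_cases hf : ∃ c₀, f = algebraMap k R c₀
  · obtain ⟨c₀, rfl⟩ := hf
    refine ⟨{c₀}, Set.finite_singleton _, fun c hc => ⟨fun h => ?_, fun p hp hmem => ?_⟩⟩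
    · exact hc ((algebraMap k R).injective h).symm
    · exfalso
      rw [← map_sub] at hmem
      have h1 : IsUnit (algebraMap k R (c₀ - c)) :=
        (isUnit_iff_ne_zero.mpr (sub_ne_zero.mpr fun h => hc h.symm)).map _
      exact hp.ne_top (Ideal.eq_top_of_isUnit_mem _ hmem h1)
  push Not at hf
  have htr : Transcendental k f := by
    intro hal
    have hint : IsIntegral k f := isAlgebraic_iff_isIntegral.mp hal
    obtain ⟨c, hc⟩ := minpoly.mem_range_of_degree_eq_one k f
      (IsAlgClosed.degree_eq_one_of_irreducible k (minpoly.irreducible hint))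
    exact hf c hc.symm
  have hN : IsNoetherianRing R := Algebra.FiniteType.isNoetherianRing k R
  have hD := dimLEOne hd
  let := (aeval (R := k) f).toRingHom.toAlgebra
  have : IsScalarTower k k[X] R := IsScalarTower.of_algebraMap_eq fun x => by
    change _ = aeval f (C x)
    rw [aeval_C]
  have : Algebra.FiniteType k[X] R := Algebra.FiniteType.of_restrictScalars_finiteType k k[X] R
  have hbot : (⊥ : PrimeSpectrum R) ∈ Algebra.unramifiedLocus k[X] R := isUnramifiedAt_bot hd htr
  obtain ⟨_, ⟨_, ⟨g, rfl⟩, rfl⟩, hg1, hg2⟩ :=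
    PrimeSpectrum.isBasis_basic_opens.exists_subset_of_mem_open hbot Algebra.isOpen_unramifiedLocus
  have hg0 : g ≠ 0 := by
    rintro rfl
    simp at hg1
  let S := {p : PrimeSpectrum R | g ∈ p.asIdeal}
  have hS : S.Finite := finite_max hg0
  refine ⟨⋃ p ∈ S, {c | f - algebraMap k R c ∈ p.asIdeal}, hS.biUnion fun p _ => ?_, fun c hc =>
    ⟨hf c, fun p hp hmem => ?_⟩⟩
  · refine Set.Subsingleton.finite ?_
    intro c hc c' hc'
    by_contra hne
    have h1 : algebraMap k R (c - c') ∈ p.asIdeal := by
      have := p.asIdeal.sub_mem hc' hc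
      rwa [sub_sub_sub_cancel_left, ← map_sub] at this
    exact p.isPrime.ne_top (Ideal.eq_top_of_isUnit_mem _ h1
      ((isUnit_iff_ne_zero.mpr (sub_ne_zero.mpr hne)).map _))
  · refine span_of_isUnramifiedAt f p c hmem ?_
    have h1 : (⟨p, hp.isPrime⟩ : PrimeSpectrum R) ∉ S := fun h =>
      hc (Set.mem_biUnion h hmem)
    exact hg2 (show (⟨p, hp.isPrime⟩ : PrimeSpectrum R) ∈ (PrimeSpectrum.basicOpen g : Set _) from h1)

/-- The same for any localization. -/
theorem map_eq_span {f : R} (p : Ideal R) [p.IsPrime] (h : IsLocalRing.maximalIdeal (Localization.AtPrime p) =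
      Ideal.span {algebraMap R (Localization.AtPrime p) f}) (S : Type u) [CommRing S] [IsLocalRing S] [Algebra R S]
    [IsLocalization.AtPrime S p] : IsLocalRing.maximalIdeal S = Ideal.span {algebraMap R S f} := by
  let e : Localization.AtPrime p ≃ₐ[R] S := IsLocalization.algEquiv p.primeCompl _ _
  have h1 : IsLocalRing.maximalIdeal S = (IsLocalRing.maximalIdeal (Localization.AtPrime p)).map (e : _ →+* S) := by
    rw [← Localization.AtPrime.map_eq_maximalIdeal, Ideal.map_map]
    rw [← IsLocalization.AtPrime.map_eq_maximalIdeal p S]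
    congr 1
    ext x
    exact (e.commutes x).symm
  rw [h1, h, Ideal.map_span, Set.image_singleton]
  congr 2
  exact e.commutes f

end K804.RamAlg
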