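import Groth.Agent.VBCurve.K804.RamAlg
import Groth.Agent.VBCurve.K707.IndepGlob

/-!
# Pencils of sections of an invertible module on a curve in characteristic zero

`exists_finite`: two sections `s₀`, `s₁` without common zeros of an invertible module on an integral scheme of finite
type and of dimension at most one over an algebraically closed field of characteristic zero; for all but finitely many
`c` the section `s₀ + c s₁` has reduced zeros.
-/

set_option autoImplicit false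
set_option linter.unusedSectionVars false
universe u

open CategoryTheory CategoryTheory.Limits AlgebraicGeometry Opposite TopologicalSpace

namespace K804.RamSec

open Groth.Agent.Sga67.Sec Groth.Agent.Sga67.LocBasis Groth.Agent.Sga67.LocBasisStalk
open K707.Indep K707.IndepCoker K707.IndepGlob

/-- Reduced zero of an element of a module over a local ring. -/
def RedAt {O : Type*} [CommRing O] [IsLocalRing O] {M : Type*} [AddCommGroup M] [Module O M] (t : M) : Prop :=
  IsLocalRing.maximalIdeal O • (⊤ : Submodule O M) ≤ Submodule.span O {t}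

theorem redAt_smul {O : Type*} [CommRing O] [IsLocalRing O] {M : Type*} [AddCommGroup M] [Module O M] {e : M}
    (he : Submodule.span O {e} = ⊤) {b : O} (hb : b ∈ IsLocalRing.maximalIdeal O →
      IsLocalRing.maximalIdeal O = Ideal.span {b}) : RedAt (O := O) (b • e) := by
  by_cases h : b ∈ IsLocalRing.maximalIdeal O
  · rw [RedAt, hb h, ← he, Submodule.ideal_span_singleton_smul, Submodule.pointwise_smul_def, Submodule.map_span,
      Set.image_singleton]
    exact le_rfl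
  · have hu : IsUnit b := by
      by_contra h'
      exact h ((IsLocalRing.mem_maximalIdeal b).mpr h')
    rw [RedAt, Submodule.span_singleton_smul_eq hu, he]
    exact le_top

variable {k : Type u} [Field k] {X : Scheme.{u}}

/-- constants -/
noncomputable def kSec (f : X ⟶ Spec (CommRingCat.of k)) (U : X.Opens) : k →+* Γ(X, U) :=
  (resO X le_top).comp (Coh.toGlobal f)

theorem resO_kSec (f : X ⟶ Spec (CommRingCat.of k)) {U V : X.Opens} (h : V ≤ U) (c : k) :
    resO X h (kSec f U c) = kSec f V c := resO_resO _ _ _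

theorem finiteType (f : X ⟶ Spec (CommRingCat.of k)) [LocallyOfFiniteType f] {V : X.Opens} (hV : IsAffineOpen V) :
    (kSec f V).FiniteType := by
  have h1 := f.finiteType_appLE (isAffineOpen_top _) hV (by simp)
  have h2 : ((Scheme.ΓSpecIso (CommRingCat.of k)).inv.hom).FiniteType :=
    RingHom.FiniteType.of_surjective _
      (ConcreteCategory.bijective_of_isIso (Scheme.ΓSpecIso (CommRingCat.of k)).inv).2
  have h3 := h1.comp h2
  have h4 : kSec f V = (f.appLE ⊤ V (by simp)).hom.comp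
      (Scheme.ΓSpecIso (CommRingCat.of k)).inv.hom := by
    ext c
    rfl
  rw [h4]
  exact h3

/-- a function on an affine open: finitely many critical values -/
theorem chart [IsIntegral X] [IsAlgClosed k] [CharZero k] (f : X ⟶ Spec (CommRingCat.of k)) [LocallyOfFiniteType f]
    (hd : topologicalKrullDim X ≤ 1) {U : X.Opens} (hU : IsAffineOpen U) [Nonempty U] (a : Γ(X, U)) :
    ∃ T : Set k, T.Finite ∧ ∀ c ∉ T, ∀ (x : X) (hx : x ∈ U), IsClosed ({x} : Set X) →
      gerO x hx (a - kSec f U c) ∈ IsLocalRing.maximalIdeal (X.presheaf.stalk x) →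
      IsLocalRing.maximalIdeal (X.presheaf.stalk x) = Ideal.span {gerO x hx (a - kSec f U c)} := by
  let := (kSec f U).toAlgebra
  have : Algebra.FiniteType k Γ(X, U) := finiteType f hU
  have hdim : ringKrullDim Γ(X, U) ≤ 1 := by
    rw [← PrimeSpectrum.topologicalKrullDim_eq_ringKrullDim]
    exact (hU.fromSpec.isOpenEmbedding.isInducing.topologicalKrullDim_le).trans hd
  obtain ⟨T, hT, H⟩ := RamAlg.exists_finite (k := k) (R := Γ(X, U)) hdim a
  refine ⟨T, hT, fun c hc x hx hxc hmem => ?_⟩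
  have hmax := hU.primeIdealOf_isMaximal_of_isClosed ⟨x, hx⟩ hxc
  have hloc := hU.isLocalization_stalk ⟨x, hx⟩
  let := TopCat.Presheaf.algebra_section_stalk X.presheaf (⟨x, hx⟩ : U)
  have hmem' : a - algebraMap k Γ(X, U) c ∈ (hU.primeIdealOf ⟨x, hx⟩).asIdeal :=
    (IsLocalization.AtPrime.to_map_mem_maximal_iff (X.presheaf.stalk x) _ _).mp hmem
  exact RamAlg.map_eq_span _ ((H c hc).2 _ hmem') (X.presheaf.stalk x)

theorem gerO_kSec_sub {U : X.Opens} (x : X) (hx : x ∈ U) (a b : Γ(X, U)) :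
    gerO x hx (a - b) = gerO x hx a - gerO x hx b := map_sub _ _ _

theorem gerO_mul {U : X.Opens} (x : X) (hx : x ∈ U) (a b : Γ(X, U)) :
    gerO x hx (a * b) = gerO x hx a * gerO x hx b := map_mul _ _ _

theorem gerO_unit {U : X.Opens} (x : X) (hx : x ∈ U) {a : Γ(X, U)} (ha : IsUnit a) : IsUnit (gerO x hx a) :=
  ha.map (X.presheaf.germ U x hx).hom

/-- The scalar multiplication by constants on sections. -/
theorem span_unit_mul {O : Type*} [CommRing O] {u b : O} (hu : IsUnit u) :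
    Ideal.span {u * b} = Ideal.span {b} := Ideal.span_singleton_mul_left_unit hu b

/-- The local statement: a pencil on a chart. -/
theorem chart_pencil [IsIntegral X] [IsAlgClosed k] [CharZero k] (f : X ⟶ Spec (CommRingCat.of k))
    [LocallyOfFiniteType f] (hd : topologicalKrullDim X ≤ 1) {M : X.Modules} {U : X.Opens} (hU : IsAffineOpen U)
    [Nonempty U] {e : Fin 1 → Sec M U} (he : IsLocBasis e) (a₀ a₁ : Γ(X, U)) (ha : IsUnit a₁ ∨ IsUnit a₀) :
    ∃ T : Set k, T.Finite ∧ ∀ c ∉ T, ∀ (x : X) (hx : x ∈ U), IsClosed ({x} : Set X) →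
      RedAt (O := X.presheaf.stalk x) (ger M x hx ((a₀ + kSec f U c * a₁) • e 0)) := by
  have hspan : ∀ (x : X) (hx : x ∈ U), Submodule.span (X.presheaf.stalk x) {ger M x hx (e 0)} = ⊤ := by
    intro x hx
    obtain ⟨β, hβ⟩ := Groth.Agent.Krr.H487.LocBasisPull.exists_stalkBasis he x hx
    rw [← β.span_eq]
    congr 1
    ext v
    simp only [Set.mem_singleton_iff, Set.mem_range]
    constructor
    · rintro rfl
      exact ⟨0, hβ 0⟩
    · rintro ⟨i, rfl⟩
      rw [hβ i, Subsingleton.elim i 0]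
  rcases ha with ha | ha
  · obtain ⟨v, hv⟩ := ha
    obtain ⟨T, hT, H⟩ := chart f hd hU (-(a₀ * (v⁻¹ : Γ(X, U)ˣ)))
    refine ⟨T, hT, fun c hc x hx hxc => ?_⟩
    rw [ger_smul]
    refine redAt_smul (hspan x hx) ?_
    have key : a₀ + kSec f U c * a₁ = (-a₁) * (-(a₀ * (v⁻¹ : Γ(X, U)ˣ)) - kSec f U c) := by
      rw [← hv]
      have : (v : Γ(X, U)) * (v⁻¹ : Γ(X, U)ˣ) = 1 := v.mul_inv
      linear_combination (-a₀) * this
    have hu : IsUnit (gerO x hx (-a₁)) := gerO_unit x hx (hv ▸ v.isUnit.neg)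
    rw [key, gerO_mul, span_unit_mul hu, Ideal.unit_mul_mem_iff_mem _ hu]
    exact H c hc x hx hxc
  · obtain ⟨v, hv⟩ := ha
    obtain ⟨T, hT, H⟩ := chart f hd hU (-(a₁ * (v⁻¹ : Γ(X, U)ˣ)))
    refine ⟨insert 0 (T.image Inv.inv), (hT.image _).insert 0, fun c hc x hx hxc => ?_⟩
    have hc0 : c ≠ 0 := fun h => hc (Or.inl h)
    have hcT : c⁻¹ ∉ T := fun h => hc (Or.inr ⟨c⁻¹, h, inv_inv c⟩)
    rw [ger_smul]
    refine redAt_smul (hspan x hx) ?_
    have hcc : kSec f U c * kSec f U c⁻¹ = 1 := by rw [← map_mul, mul_inv_cancel₀ hc0, map_one]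
    have key : a₀ + kSec f U c * a₁ = (-(kSec f U c * a₀)) * (-(a₁ * (v⁻¹ : Γ(X, U)ˣ)) - kSec f U c⁻¹) := by
      rw [← hv]
      have : (v : Γ(X, U)) * (v⁻¹ : Γ(X, U)ˣ) = 1 := v.mul_inv
      linear_combination (-(kSec f U c * a₁)) * this - (v : Γ(X, U)) * hcc
    have hu : IsUnit (gerO x hx (-(kSec f U c * a₀))) := by
      apply gerO_unit
      rw [IsUnit.neg_iff]
      exact (IsUnit.mul (IsUnit.of_mul_eq_one _ hcc) (hv ▸ v.isUnit))
    rw [key, gerO_mul, span_unit_mul hu, Ideal.unit_mul_mem_iff_mem _ hu]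
    exact H c⁻¹ hcT x hx hxc

/-- a function with nonzero value at `x` is a unit near `x` -/
theorem exists_unit {U : X.Opens} (hU : IsAffineOpen U) {x : X} (hx : x ∈ U) {a : Γ(X, U)} (ha : evO x hx a ≠ 0) :
    ∃ (W : X.Opens) (h : W ≤ U), IsAffineOpen W ∧ x ∈ W ∧ IsUnit (resO X h a) := by
  refine ⟨X.basicOpen a, X.basicOpen_le _, hU.basicOpen a, ?_, RingedSpace.isUnit_res_basicOpen _ a⟩
  rw [Scheme.mem_basicOpen X a x hx]
  have h7 : IsUnit (IsLocalRing.residue _ ((X.presheaf.germ U x hx) a)) := by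
    rw [isUnit_iff_ne_zero]
    exact ha
  exact (isUnit_map_iff (IsLocalRing.residue _) _).mp h7

/-- The local statement at a point. -/
theorem near [IsIntegral X] [IsAlgClosed k] [CharZero k] (f : X ⟶ Spec (CommRingCat.of k))
    [LocallyOfFiniteType f] (hd : topologicalKrullDim X ≤ 1) {M : X.Modules} (hM : FlatMod.IsFinLocFreeOfRank 1 M)
    (s₀ s₁ : Sec M ⊤) (x : X) (hno : ¬ (ev M (U := ⊤) x trivial s₀ = 0 ∧ ev M (U := ⊤) x trivial s₁ = 0)) :
    ∃ (W : X.Opens) (T : Set k), x ∈ W ∧ T.Finite ∧ ∀ c ∉ T, ∀ y ∈ W, IsClosed ({y} : Set X) →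
      RedAt (O := X.presheaf.stalk y) (ger M (U := ⊤) y trivial (s₀ + kSec f ⊤ c • s₁)) := by
  have hM' := hM
  simp only [FlatMod.IsFinLocFreeOfRank, nonempty_restrict_iso_iff] at hM'
  obtain ⟨U₀, hxU₀, b₀, hb₀⟩ := hM' x
  obtain ⟨U, hU, hxU, hUU₀⟩ := exists_isAffineOpen_mem_and_subset (X := X) (U := U₀) (x := x) hxU₀
  have hle : U ≤ U₀ := hUU₀
  have hb := hb₀.restrict hle
  obtain ⟨a₀, ha₀⟩ := (hb U le_rfl).2 (res M le_top s₀)
  obtain ⟨a₁, ha₁⟩ := (hb U le_rfl).2 (res M le_top s₁)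
  rw [comb_apply, Fin.sum_univ_one, res_self] at ha₀ ha₁
  have hev : ∀ (s : Sec M ⊤) (a : Fin 1 → Γ(X, U)), a 0 • res M hle (b₀ 0) = res M le_top s → evO x hxU (a 0) = 0 →
      ev M (U := ⊤) x trivial s = 0 := by
    intro s a h h0
    have h1 := ev_res M (le_top : U ≤ ⊤) x hxU s
    rw [← h1, ← h, ev_smul, h0, zero_smul]
  have hor : evO x hxU (a₁ 0) ≠ 0 ∨ evO x hxU (a₀ 0) ≠ 0 := by
    by_contra h
    push Not at h
    exact hno ⟨hev _ _ ha₀ h.2, hev _ _ ha₁ h.1⟩
  obtain ⟨W, hWU, hW, hxW, hunit⟩ : ∃ (W : X.Opens) (h : W ≤ U), IsAffineOpen W ∧ x ∈ W ∧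
      (IsUnit (resO X h (a₁ 0)) ∨ IsUnit (resO X h (a₀ 0))) := by
    rcases hor with h | h
    · obtain ⟨W, h1, h2, h3, h4⟩ := exists_unit hU hxU h
      exact ⟨W, h1, h2, h3, Or.inl h4⟩
    · obtain ⟨W, h1, h2, h3, h4⟩ := exists_unit hU hxU h
      exact ⟨W, h1, h2, h3, Or.inr h4⟩
  have : Nonempty W := ⟨⟨x, hxW⟩⟩
  obtain ⟨T, hT, H⟩ := chart_pencil f hd hW (hb.restrict hWU) _ _ hunit
  refine ⟨W, T, hxW, hT, fun c hc y hy hyc => ?_⟩
  have h1 := H c hc y hy hyc
  have h2 : (resO X hWU (a₀ 0) + kSec f W c * resO X hWU (a₁ 0)) • res M hWU (res M hle (b₀ 0)) =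
      res M le_top (s₀ + kSec f ⊤ c • s₁) := by
    rw [add_smul, mul_smul, ← res_smul, ← res_smul, ha₀, ha₁, res_res, res_res, map_add, res_smul, resO_kSec]
  rw [h2, ger_res] at h1
  exact h1

/-- For all but finitely many `c` the section `s₀ + c s₁` has reduced zeros. -/
theorem exists_finite [IsIntegral X] [CompactSpace X] [IsAlgClosed k] [CharZero k] (f : X ⟶ Spec (CommRingCat.of k))
    [LocallyOfFiniteType f] (hd : topologicalKrullDim X ≤ 1) {M : X.Modules} (hM : FlatMod.IsFinLocFreeOfRank 1 M)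
    (s₀ s₁ : Sec M ⊤) (hno : ∀ x, ¬ (ev M (U := ⊤) x trivial s₀ = 0 ∧ ev M (U := ⊤) x trivial s₁ = 0)) :
    ∃ T : Set k, T.Finite ∧ ∀ c ∉ T, ∀ y : X, IsClosed ({y} : Set X) →
      RedAt (O := X.presheaf.stalk y) (ger M (U := ⊤) y trivial (s₀ + kSec f ⊤ c • s₁)) := by
  choose W T hxW hT H using fun x => near f hd hM s₀ s₁ x (hno x)
  obtain ⟨t, ht⟩ := isCompact_univ.elim_finite_subcover (fun x => (W x : Set X)) (fun x => (W x).2)
    (fun x _ => Set.mem_iUnion.mpr ⟨x, hxW x⟩)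
  refine ⟨⋃ x ∈ t, T x, t.finite_toSet.biUnion fun x _ => hT x, fun c hc y hy => ?_⟩
  obtain ⟨x, hx⟩ := Set.mem_iUnion.mp (ht (Set.mem_univ y))
  obtain ⟨hxt, hyx⟩ := Set.mem_iUnion.mp hx
  exact H x c (fun h => hc (Set.mem_biUnion hxt h)) y hyx hy

end K804.RamSec
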